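import Cfsg.Prelude.Def_KGroupFacts
import Cfsg.Agent.LeechModel.Glue
import Cfsg.Agent.HigSims.Model
import Cfsg.Agent.HigSims.Mult.CoverData

/-!
A double cover of the group as permutations of 100 + 704 points.
-/

set_option autoImplicit false
set_option maxRecDepth 100000
set_option maxHeartbeats 0
set_option Elab.async false

namespace Cfsg.Agent.HigSims.Cover

open Cfsg Cfsg.Agent.Compute Cfsg.Agent.StemCert Cfsg.Agent.LeechModel
open scoped commutatorElement

/-- Permutations of all the points. -/
noncomputable abbrev repAll : Rep (Equiv.Perm (Fin (100 + 704))) (Fin (100 + 704)) :=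
  permRep 10 (100 + 704) (Equiv.refl _) (by norm_num) (by norm_num)

/-- Permutations of the fibre points. -/
noncomputable abbrev repFib : Rep (Equiv.Perm (Fin 704)) (Fin 704) :=
  permRep 10 704 (Equiv.refl _) (by norm_num) (by norm_num)

/-- The codes below, completed by the identity. -/
noncomputable def lowCodes : List ℕ := Model.codes ++ [idCode 7 100]

theorem glue_ok : allBelow 8 (fun s => glueB 10 7 10 100 704 (coverCodes.getD s 0)
    (lowCodes.getD s 0) (fibreCodes.getD s 0)) = true := by decide +kernel

theorem top_ok : coverCodes.length = 8 ∧ coverCodes = topGens coverChain ∧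
    coverChain = [coverChain0, coverChain1, coverChain2, coverChain3, coverChain4, coverChain5] ∧
    chainSize coverChain = 88704000 := by
  refine ⟨?_, ?_, rfl, ?_⟩ <;> decide +kernel

theorem level5 : repAll.checkLevel coverChain5 [] = true := by decide +kernel

theorem level4 : repAll.checkLevel coverChain4 [coverChain5] = true := by decide +kernel

theorem level3 : repAll.checkLevel coverChain3 [coverChain4, coverChain5] = true := by decide +kernel

theorem level2 : repAll.checkLevel coverChain2 [coverChain3, coverChain4, coverChain5] = true := by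
  decide +kernel

theorem level1 :
    repAll.checkLevel coverChain1 [coverChain2, coverChain3, coverChain4, coverChain5] = true := by
  decide +kernel

theorem level0 : repAll.checkLevel coverChain0
    [coverChain1, coverChain2, coverChain3, coverChain4, coverChain5] = true := by
  decide +kernel

theorem chain_ok : repAll.checkChain coverChain = true := by
  rw [top_ok.2.2.1]
  simp only [Rep.checkChain_cons, level0, level1, level2, level3, level4, level5, Bool.true_and]
  rfl

/-- A generator. -/
noncomputable def pairGen (s : ℕ) : Equiv.Perm (Fin 100) × Equiv.Perm (Fin 704) :=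
  (if s < 7 then ι (gen s) else 1, repFib.den (fibreCodes.getD s 0))

/-- The double cover. -/
noncomputable def cover : Subgroup (Equiv.Perm (Fin 100) × Equiv.Perm (Fin 704)) :=
  Subgroup.closure (pairGen '' {s | s < 8})

theorem card_cover : Nat.card cover = 88704000 := by
  rw [← top_ok.2.2.2]
  refine card_closure_pairs (w := 10) (v := 7) (σ := fun s => if s < 7 then ι (gen s) else 1)
    (as := lowCodes) (by norm_num) (by norm_num) (by norm_num) (by norm_num) ?_ glue_ok top_ok.1
    top_ok.2.1 chain_ok
  intro s hs x
  have hlen : Model.codes.length = 7 := rfl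
  by_cases h : s < 7
  · simp only [if_pos h, lowCodes, List.getD_append _ _ _ _ (hlen.symm ▸ h)]
    exact coded s h x
  · obtain rfl : s = 7 := by omega
    simp only [lt_irrefl, if_false, lowCodes, Equiv.Perm.one_apply]
    rw [List.getD_append_right _ _ _ _ (by rw [hlen]), hlen]
    exact (getField_idCode (by norm_num) x.2).symm

theorem fst_range : ((MonoidHom.fst _ _).comp cover.subtype).range = ι.range := by
  rw [MonoidHom.range_comp, Subgroup.range_subtype, cover, MonoidHom.map_closure, Set.image_image]
  refine le_antisymm ((Subgroup.closure_le _).mpr ?_) ?_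
  · rintro _ ⟨s, -, rfl⟩
    show (if s < 7 then ι (gen s) else 1) ∈ ι.range
    split
    exacts [⟨_, rfl⟩, one_mem _]
  · rintro _ ⟨x, rfl⟩
    induction generated x using Submonoid.closure_induction with
    | mem y hy =>
      obtain ⟨s, hs, rfl⟩ := hy
      exact Subgroup.subset_closure ⟨s, Nat.lt_succ_of_lt hs, if_pos hs⟩
    | one => rw [map_one]; exact one_mem _
    | mul a b _ _ ha hb => rw [map_mul]; exact mul_mem ha hb

theorem witness_ok : allB (fun s => Nat.blt s 7) wordA = true ∧ allB (fun s => Nat.blt s 7) wordB = true ∧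
    eqOn 7 Model.codes Model.base (wordA ++ wordB) (wordB ++ wordA) = true ∧
    (!(Nat.beq (appW 10 fibreCodes (wordA ++ wordB) 0) (appW 10 fibreCodes (wordB ++ wordA) 0))) = true := by
  refine ⟨?_, ?_, ?_, ?_⟩ <;> decide +kernel

/-- The double cover. -/
theorem exists_stem : ∃ (Γ : Type) (_ : Group Γ) (_ : Finite Γ) (σ : Γ →* ↥Spor.HS),
    Cfsg.IsStemExtension σ ∧ Nonempty (σ.ker ≃* Multiplicative (ZMod 2)) := by
  classical
  let p1 := (MonoidHom.fst _ _).comp cover.subtype
  let σ : cover →* ↥Spor.HS :=
    (MonoidHom.ofInjective ι_injective).symm.toMonoidHom.comp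
      ((MulEquiv.subgroupCongr fst_range).toMonoidHom.comp p1.rangeRestrict)
  have hσ : ∀ x, ι (σ x) = x.1.1 := fun x =>
    congrArg Subtype.val ((MonoidHom.ofInjective ι_injective).apply_symm_apply _)
  have hsurj : Function.Surjective σ :=
    (MonoidHom.ofInjective ι_injective).symm.surjective.comp
      ((MulEquiv.subgroupCongr fst_range).surjective.comp p1.rangeRestrict_surjective)
  have hcard : Nat.card σ.ker = 2 := by
    have h := Subgroup.card_mul_index σ.ker
    rw [Subgroup.index_ker, MonoidHom.range_eq_top.mpr hsurj, Subgroup.card_top, card_hs,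
      card_cover] at h
    omega
  have hcen : σ.ker ≤ Subgroup.center cover := le_center_of_card_two hcard
  refine ⟨cover, inferInstance, inferInstance, σ, ⟨hsurj, hcen, ?_⟩,
    ⟨mulEquivOfPrimeCardEq (p := 2) hcard (by simp)⟩⟩
  obtain ⟨hla, hlb, hcomm, hne⟩ := witness_ok
  -- lifts of the two words
  let lift : ℕ → cover := fun s =>
    if hs : s < 8 then ⟨pairGen s, Subgroup.subset_closure ⟨s, hs, rfl⟩⟩ else 1
  have hfst : ∀ w : List ℕ, (∀ s ∈ w, s < 7) → σ (evalW lift w) = evalW gen w := by
    intro w hw
    rw [map_evalW]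
    refine congrArg List.prod (List.map_congr_left fun s hs => ι_injective ?_)
    simp only [Function.comp_apply, hσ, lift, dif_pos (Nat.lt_succ_of_lt (hw s hs))]
    exact if_pos (hw s hs)
  have hl : ∀ {w}, allB (fun s => Nat.blt s 7) w = true → ∀ s ∈ w, s < 7 := fun h s hs =>
    Nat.blt_eq.mp (allB_spec h s hs)
  set A := evalW lift wordA
  set B := evalW lift wordB
  have hk : ⁅A, B⁆ ∈ σ.ker := by
    rw [MonoidHom.mem_ker, map_commutatorElement, hfst _ (hl hla), hfst _ (hl hlb),
      commutatorElement_eq_one_iff_mul_comm, ← evalW_append, ← evalW_append]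
    exact eq_of_eqOn coded base_isBase
      (fun s hs => (List.mem_append.mp hs).elim (hl hla s) (hl hlb s))
      (fun s hs => (List.mem_append.mp hs).elim (hl hlb s) (hl hla s)) hcomm
  have hne1 : ⁅A, B⁆ ≠ 1 := by
    intro e
    rw [commutatorElement_eq_one_iff_mul_comm, ← evalW_append, ← evalW_append] at e
    have hsnd : ∀ w : List ℕ, (∀ s ∈ w, s < 8) → ∀ x : Fin 704,
        (((evalW lift w : cover) : Equiv.Perm (Fin 100) × Equiv.Perm (Fin 704)).2 x : ℕ) =
          appW 10 fibreCodes w x := by
      intro w hw x
      let q : cover →* Equiv.Perm (Fin 704) := (MonoidHom.snd _ _).comp cover.subtype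
      have hc : Coded (w := 10) (k := 8) q lift fibreCodes := by
        intro s hs y
        have h := allBelow_eq_true.mp glue_ok s hs
        simp only [glueB, Bool.and_eq_true] at h
        show (((lift s : cover) : Equiv.Perm (Fin 100) × Equiv.Perm (Fin 704)).2 y : ℕ) = _
        simp only [lift, dif_pos hs]
        exact congrArg Fin.val (denPerm_apply (Equiv.refl (Fin 704)) (codePerm_of_check h.1.1.2) y)
      exact appW_spec hc w hw x
    have h1 := hsnd (wordA ++ wordB)
      (fun s hs => Nat.lt_succ_of_lt ((List.mem_append.mp hs).elim (hl hla s) (hl hlb s))) ⟨0, by norm_num⟩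
    have h2 := hsnd (wordB ++ wordA)
      (fun s hs => Nat.lt_succ_of_lt ((List.mem_append.mp hs).elim (hl hlb s) (hl hla s))) ⟨0, by norm_num⟩
    rw [e, h2] at h1
    rw [Bool.not_eq_true', ← Bool.not_eq_true, Nat.beq_eq] at hne
    exact hne h1.symm
  have hM : σ.ker ⊓ commutator cover = σ.ker := by
    refine Subgroup.eq_of_le_of_card_ge inf_le_left ?_
    rw [hcard]
    exact Finite.one_lt_card_iff_nontrivial.mpr ⟨⟨⟨⁅A, B⁆, hk,
      Subgroup.commutator_mem_commutator (Subgroup.mem_top _) (Subgroup.mem_top _)⟩, 1,
      fun h => hne1 (congrArg Subtype.val h)⟩⟩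
  exact inf_eq_left.mp hM

end Cfsg.Agent.HigSims.Cover
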