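import Cfsg.Agent.HigSims.Mult.Check
import Cfsg.Agent.HigSims.Mult.Cover

/-! The Schur multiplier of the Higman–Sims group. -/

set_option autoImplicit false

namespace Cfsg.Agent.HigSims.Mult

/-- The multiplier is cyclic of order 2. -/
theorem multiplier : Cfsg.HasCyclicSchurMultiplier ↥Cfsg.Spor.HS 2 :=
  ⟨Cover.exists_stem, fun _ _ _ σ hσ => bound σ hσ⟩

end Cfsg.Agent.HigSims.Mult
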